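import Cfsg.Agent.H202.TP.Defs
import Cfsg.Agent.H377.TSpor.Main

/-!
# Block TP (S3536): alternating and sporadic groups (task P-ALT)
-/

set_option autoImplicit false

namespace Cfsg.Agent.H96.TP

open Cfsg.Agent.OrdDiv Cfsg.Agent.H202.T Cfsg.Agent.H202.TP Cfsg.Agent.H436

universe u

variable {p q k : ℕ} {S : Type u} [Group S]

/-! ### Arithmetic -/

/-- an odd prime divisor of `q ^ (2 i) - 1`, `1 ≤ i ≤ n`, divides `q ^ n + 1` or is at most `(q ^ n - 1) / 4` -/
theorem le_quarter {q n i s : ℕ} (hq : 3 ≤ q) (hn : 8 ≤ n) (hne : Even n) (hi : 1 ≤ i) (hin : i ≤ n) (hs : s.Prime)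
    (h : s ∣ q ^ (2 * i) - 1) : s ∣ q ^ n + 1 ∨ 4 * s ≤ q ^ n - 1 := by
  have hbig : 6561 ≤ q ^ n := by
    calc 6561 = 3 ^ 8 := by norm_num
      _ ≤ q ^ 8 := Nat.pow_le_pow_left hq 8
      _ ≤ q ^ n := Nat.pow_le_pow_right (by omega) hn
  have e1 : q ^ (2 * i) - 1 = (q ^ i + 1) * (q ^ i - 1) := by
    have := Nat.sq_sub_sq (q ^ i) 1
    rw [← pow_mul, mul_comm i 2] at this
    simpa using this
  rw [e1] at h
  rcases Nat.lt_or_ge (n - 2) i with h1 | h1
  · rcases (show i = n ∨ i = n - 1 by omega) with h2 | h2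
    · -- `i = n`
      subst h2
      rcases hs.dvd_mul.1 h with h3 | h3
      · exact Or.inl h3
      · right
        obtain ⟨m, hm⟩ := hne
        have e2 : q ^ i - 1 = (q ^ m + 1) * (q ^ m - 1) := by
          have := Nat.sq_sub_sq (q ^ m) 1
          rw [← pow_mul, show m * 2 = i by omega] at this
          simpa using this
        have h9 : 81 ≤ q ^ m := by
          calc 81 = 3 ^ 4 := by norm_num
            _ ≤ q ^ 4 := Nat.pow_le_pow_left hq 4
            _ ≤ q ^ m := Nat.pow_le_pow_right (by omega) (by omega)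
        have e3 : q ^ i = q ^ m * q ^ m := by rw [← pow_add, ← hm]
        have h4 : s ≤ q ^ m + 1 := by
          rw [e2] at h3
          rcases hs.dvd_mul.1 h3 with h5 | h5
          · exact Nat.le_of_dvd (by omega) h5
          · exact (Nat.le_of_dvd (by omega) h5).trans (by omega)
        have h5 : 81 * q ^ m ≤ q ^ m * q ^ m := Nat.mul_le_mul_right _ h9
        omega
    · -- `i = n - 1`
      right
      have e3 : q ^ n = q ^ i * q := by rw [← pow_succ, h2, show n - 1 + 1 = n by omega]
      have h9 : 81 ≤ q ^ i := by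
        calc 81 = 3 ^ 4 := by norm_num
          _ ≤ q ^ 4 := Nat.pow_le_pow_left hq 4
          _ ≤ q ^ i := Nat.pow_le_pow_right (by omega) (by omega)
      have h10 : 3 * q ^ i ≤ q ^ n := by rw [e3, mul_comm]; exact Nat.mul_le_mul_left _ hq
      have hqi : q + 1 ≤ q ^ i := by
        calc q + 1 ≤ q * 3 := by omega
          _ ≤ q * q := Nat.mul_le_mul_left _ hq
          _ = q ^ 2 := by ring
          _ ≤ q ^ i := Nat.pow_le_pow_right (by omega) (by omega)
      have hio : Odd i := by
        obtain ⟨m, hm⟩ := hne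
        exact ⟨m - 1, by omega⟩
      have hqs : 4 * (q + 1) ≤ q ^ n - 1 := by
        have h11 : 3 ^ 2 * q ^ 2 ≤ q ^ n := by
          calc 3 ^ 2 * q ^ 2 ≤ q ^ 2 * q ^ 2 := Nat.mul_le_mul_right _ (Nat.pow_le_pow_left hq 2)
            _ = q ^ 4 := by ring
            _ ≤ q ^ n := Nat.pow_le_pow_right (by omega) (by omega)
        have h12 : 3 * q ≤ q ^ 2 := by nlinarith
        omega
      rcases hs.dvd_mul.1 h with h3 | h3
      · have h4 : q + 1 ∣ q ^ i + 1 := by
          have := hio.nat_add_dvd_pow_add_pow q 1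
          simpa using this
        obtain ⟨m, hm⟩ := h4
        rw [hm] at h3
        rcases hs.dvd_mul.1 h3 with h5 | h5
        · have := Nat.le_of_dvd (by omega) h5
          omega
        · have hm0 : 0 < m := Nat.pos_of_ne_zero (by rintro rfl; omega)
          have h6 := Nat.le_of_dvd hm0 h5
          have h7 : 4 * m ≤ q ^ i + 1 := by rw [hm]; exact Nat.mul_le_mul_right _ (by omega)
          omega
      · have h4 : q - 1 ∣ q ^ i - 1 := by simpa using Nat.sub_dvd_pow_sub_pow q 1 i
        obtain ⟨m, hm⟩ := h4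
        rw [hm] at h3
        rcases hs.dvd_mul.1 h3 with h5 | h5
        · have := Nat.le_of_dvd (by omega) h5
          omega
        · have hm0 : 0 < m := Nat.pos_of_ne_zero (by rintro rfl; omega)
          have h6 := Nat.le_of_dvd hm0 h5
          have h7 : 2 * m ≤ q ^ i - 1 := by rw [hm]; exact Nat.mul_le_mul_right _ (by omega)
          omega
  · -- `i ≤ n - 2`
    right
    have h3 : s ≤ q ^ i + 1 := by
      have hqi : 3 ≤ q ^ i := hq.trans (Nat.le_self_pow (by omega) q)
      rcases hs.dvd_mul.1 h with h3 | h3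
      · exact Nat.le_of_dvd (by omega) h3
      · exact (Nat.le_of_dvd (by omega) h3).trans (by omega)
    have h4 : q ^ i ≤ q ^ (n - 2) := Nat.pow_le_pow_right (by omega) h1
    have h5 : 9 * q ^ (n - 2) ≤ q ^ n := by
      have e : q ^ n = q ^ (n - 2) * q ^ 2 := by rw [← pow_add, show n - 2 + 2 = n by omega]
      rw [e, mul_comm]
      exact Nat.mul_le_mul_left _ (Nat.pow_le_pow_left hq 2)
    omega

/-! ### Alternating groups -/

theorem alt' {n : ℕ} (h : TK p q k (alternatingGroup (Fin n))) : False := by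
  have hq := h.odd
  have hq3 := h.three_le
  have h3281 := h.mn_ge
  have hmod := h.mn_mod
  have mod8 : ∀ r : ℕ, r.Prime → r ∣ mn q k → r % 8 = 1 := fun r hr hrm => h.mod_eight hr hrm
  have le17 : ∀ r : ℕ, r.Prime → r ∣ mn q k → 17 ≤ r := fun r hr hrm => by
    have h1 := mod8 r hr hrm
    by_contra h2
    have h3 : r = 1 ∨ r = 9 := by omega
    rcases h3 with rfl | rfl
    · exact absurd hr (by norm_num)
    · exact absurd hr (by norm_num)
  -- a prime divisor of `mn q k`
  have key : ∀ r : ℕ, r.Prime → r ∣ mn q k → n < r + 3 ∧ r ≤ n := fun r hr hrm => by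
    have h17 := le17 r hr hrm
    refine ⟨?_, ?_⟩
    · by_contra hlt
      have hro : Odd r := hr.odd_of_ne_two (by omega)
      obtain ⟨x, hx⟩ := H380.AltSpec.exists_orderOf (n := n) {r, 3} (by simpa using by omega)
        (by intro a ha; simp at ha; omega) (by
          simp only [Multiset.insert_eq_cons, Multiset.sum_cons, Multiset.sum_singleton, Multiset.card_cons,
            Multiset.card_singleton]
          obtain ⟨k, rfl⟩ := hro
          exact ⟨k + 3, by ring⟩)
      have h1 : orderOf x = Nat.lcm r 3 := by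
        rw [hx]; simp; rfl
      have h2 := h.iso r x hr hrm (by rw [h1]; exact Nat.dvd_lcm_left _ _)
      rw [h1] at h2
      have h3 : 3 ∣ mn q k := (Nat.dvd_lcm_right _ _).trans h2
      have h4 := mod8 3 Nat.prime_three h3
      omega
    · have h1 := hrm.trans h.dvd_card
      have h2 : Nat.card (alternatingGroup (Fin n)) ∣ n.factorial := by
        have := Subgroup.card_subgroup_dvd_card (alternatingGroup (Fin n))
        rwa [Nat.card_perm, Nat.card_fin] at this
      exact hr.dvd_factorial.1 (h1.trans h2)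
  obtain ⟨r, hr, hrm⟩ := Nat.exists_prime_and_dvd (n := mn q k) (by omega)
  have hr17 := le17 r hr hrm
  obtain ⟨h1, h2⟩ := key r hr hrm
  -- only one prime divisor
  have huniq : ∀ s : ℕ, s.Prime → s ∣ mn q k → s = r := fun s hs hsm => by
    obtain ⟨h3, h4⟩ := key s hs hsm
    have := mod8 r hr hrm
    have := mod8 s hs hsm
    omega
  -- `mn q k = r`
  have hmr : mn q k = r := by
    obtain ⟨k', hk'⟩ := hrm
    by_contra hne
    have hk1 : k' ≠ 1 := by rintro rfl; exact hne (by rw [hk', mul_one])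
    obtain ⟨s, hs, hsk⟩ := Nat.exists_prime_and_dvd hk1
    have h3 := huniq s hs (hk' ▸ hsk.mul_left r)
    subst h3
    have h4 : s * s ∣ Nat.card (alternatingGroup (Fin n)) := by
      refine (mul_dvd_mul_left s hsk).trans ?_
      rw [← hk']
      exact h.dvd_card
    have h2' : Nat.card (alternatingGroup (Fin n)) ∣ n.factorial := by
      have := Subgroup.card_subgroup_dvd_card (alternatingGroup (Fin n))
      rwa [Nat.card_perm, Nat.card_fin] at this
    have h5 : s ^ 2 ∣ n.factorial := by
      rw [sq]; exact h4.trans h2'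
    have h6 := (Nat.Prime.pow_dvd_factorial_iff hs (n := n) (b := 2) (by
      exact (Nat.log_lt_of_lt_pow (by omega) (by nlinarith)))).1 h5
    rw [Finset.sum_Ico_eq_sum_range] at h6
    simp only [Nat.reduceSub, Finset.sum_range_one] at h6
    have h7 : n / s ^ (1 + 0) = 1 := by
      rw [add_zero, pow_one]
      exact Nat.div_eq_of_lt_le (by omega) (by omega)
    rw [h7] at h6
    omega
  -- Bertrand
  obtain ⟨s, hs, hs1, hs2⟩ := Nat.exists_prime_lt_and_le_two_mul ((r - 1) / 2) (by omega)
  have hsr : s < r := by omega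
  have hso : Odd s := hs.odd_of_ne_two (by omega)
  have hsc : s ∣ Nat.card (alternatingGroup (Fin n)) := by
    obtain ⟨x, hx⟩ := H380.AltSpec.exists_orderOf (n := n) {s} (by simpa using by omega)
      (by intro a ha; simp at ha; omega) (by
        simp only [Multiset.sum_singleton, Multiset.card_singleton]
        exact hso.add_one)
    have h3 : orderOf x = s := by rw [hx]; simp
    rw [← h3]
    exact orderOf_dvd_natCard x
  have htwo := two_mn h.hk2 hq
  have hn8 : 8 ≤ 2 ^ k := by
    calc 8 = 2 ^ 3 := by norm_num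
      _ ≤ 2 ^ k := Nat.pow_le_pow_right (by norm_num) h.hk
  rcases h.pr s hs hsc with h3 | ⟨i, hi, hin, hsi⟩
  · have h4 : s ≤ q := h3 ▸ Nat.le_of_dvd (by omega) h.dvd
    have h5 : q ^ 2 ≤ q ^ 2 ^ k := Nat.pow_le_pow_right (by omega) (by omega)
    have h6 : 3 * q ≤ q ^ 2 := by nlinarith
    have h7 : 6561 ≤ q ^ 2 ^ k := by omega
    have h8 : q ^ 2 * 9 ≤ q ^ 2 ^ k := by
      calc q ^ 2 * 9 ≤ q ^ 2 * q ^ 2 := Nat.mul_le_mul_left _ (by nlinarith)
        _ = q ^ 4 := by ring
        _ ≤ q ^ 2 ^ k := Nat.pow_le_pow_right (by omega) (by omega)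
    omega
  · rcases le_quarter hq3 hn8 (Nat.even_pow.2 ⟨even_two, by have := h.hk; omega⟩) hi hin hs hsi with h3 | h3
    · rw [← htwo] at h3
      have h4 : s ∣ mn q k := (hs.dvd_mul.1 h3).resolve_left fun h5 => by
        have := (Nat.prime_dvd_prime_iff_eq hs Nat.prime_two).1 h5
        subst this
        exact absurd hso (by decide)
      have := huniq s hs h4
      omega
    · omega

/-- **the alternating groups** -/
theorem alt {d : ℕ} (h : TK p q k S) (hg : IsNamed (.alt d) S) : False := by
  obtain ⟨e⟩ := hg.real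
  exact alt' (h.congr e)

/-! ### Sporadic groups -/

/-- **the sporadic groups and the Tits group** -/
theorem spor' {x : Grp × ℕ} (hx : x ∈ spor) (h : TK p q k S) (hS : IsNamed x.1 S) : False := by
  have hc : Nat.card S = x.2 := hS.ord.trans (spor_ord x hx)
  have h1 : mn q k ∣ x.2 := hc ▸ h.dvd_card
  have hco : Nat.Coprime (mn q k) (Cfsg.Agent.H377.TSpor.PP ^ 46) := by
    rw [h.mn_eq]
    exact Cfsg.Agent.H377.TSpor.coprime_PP h.odd_Q
  have h2 : mn q k ∣ 697 := hco.dvd_of_dvd_mul_right (h1.trans (Cfsg.Agent.H377.TSpor.chk x hx))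
  have h3 := Nat.le_of_dvd (by norm_num) h2
  have h4 := h.mn_ge
  omega

/-- **the sporadic groups and the Tits group** -/
theorem spor_of {g : Grp} (hg : g ∈ spor.map (fun x => x.1)) (h : TK p q k S) (hS : IsNamed g S) : False := by
  obtain ⟨x, hx, rfl⟩ := List.mem_map.1 hg
  exact spor' hx h hS

theorem tits (h : TK p q k S) (hS : IsNamed .tits S) : False := spor_of (by decide) h hS

end Cfsg.Agent.H96.TP
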